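import Groth.Agent.H16Derived.QCohD.AffineReflect
import Groth.Agent.H16Derived.QRep.Vanish
import Groth.Agent.H16Derived.QCohD.RpushUnb

/-!
# Affine direct images detect cohomology in each degree
-/

set_option autoImplicit false
set_option linter.style.haveILetI false
set_option maxHeartbeats 1000000

universe u

open CategoryTheory CategoryTheory.Limits AlgebraicGeometry CategoryTheory.Pretriangulated
open DerivedCategory DerivedCategory.TStructure

attribute [local instance] HasDerivedCategory.standard

namespace Groth.Agent.H02CA.SysBounded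

open Groth.Agent.H16Derived Groth.Agent.H16Derived.QCohD Groth.Agent.H16Derived.KFlat.Stalk

variable {X S : Scheme.{u}}

/-- For affine `f`, vanishing of a cohomology sheaf of `Rf_*L` gives vanishing of that of `L`. -/
theorem isZero_hd_of_rpush (f : X ⟶ S) [IsAffineHom f] [DCoh.HasRpush f] (L : DCoh.D X) (hL : DCoh.IsQCohD L)
    (q : ℤ) (h : IsZero (DCoh.HD ((DCoh.Rpush f).obj L) q)) : IsZero (DCoh.HD L q) := by
  letI := rpushCommShift f
  haveI := rpush_isTriangulated f
  let H : ℤ → (DerivedCategory S.Modules ⥤ S.Modules) := fun m => DerivedCategory.homologyFunctor S.Modules m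
  -- remove the lower part
  let L' := (t.truncGE q).obj L
  haveI : DerivedCategory.IsGE L' q := inferInstanceAs (t.IsGE _ q)
  have hL' : DCoh.IsQCohD L' := homP_truncGE Coh.IsQCoh isQCoh_iso isQCoh_isZero hL q
  haveI : DerivedCategory.IsLE ((t.truncLT q).obj L) (q - 1) := inferInstanceAs (t.IsLE ((t.truncLT q).obj L) (q - 1))
  have hA : ∀ m, q ≤ m → IsZero (DCoh.HD ((DCoh.Rpush f).obj ((t.truncLT q).obj L)) m) := fun m hm =>
    isZero_rpush_of_isLE f (QRep.bound_one f) _
      (homP_truncLT Coh.IsQCoh isQCoh_iso isQCoh_isZero hL q) (q - 1) m (by omega)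
  have hT := (DCoh.Rpush f).map_distinguished _ (t.triangleLTGE_distinguished q L)
  have h' : IsZero (DCoh.HD ((DCoh.Rpush f).obj L') q) :=
    (DerivedCategory.HomologySequence.exact₃ _ hT q (q + 1) rfl).isZero_of_both_zeros
      (h.eq_of_src _ _) ((hA (q + 1) (by omega)).eq_of_tgt _ _)
  -- remove the upper part
  haveI : DerivedCategory.IsGE ((t.truncGE (q + 1)).obj L') (q + 1) := inferInstanceAs (t.IsGE _ (q + 1))
  haveI := isGE_rpush f ((t.truncGE (q + 1)).obj L') (q + 1)
  have hT' := (DCoh.Rpush f).map_distinguished _ (t.triangleLTGE_distinguished (q + 1) L')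
  have h'' : IsZero (DCoh.HD ((DCoh.Rpush f).obj ((t.truncLT (q + 1)).obj L')) q) :=
    (DerivedCategory.HomologySequence.exact₁ _ hT' (q - 1) q (by omega)).isZero_of_both_zeros
      ((DerivedCategory.isZero_of_isGE ((DCoh.Rpush f).obj ((t.truncGE (q + 1)).obj L')) (q + 1) (q - 1)
        (by omega)).eq_of_src _ _) (h'.eq_of_tgt _ _)
  haveI : DerivedCategory.IsGE ((t.truncLT (q + 1)).obj L') q := DTrunc.isGE_truncLT L' (q + 1) q
  haveI : DerivedCategory.IsLE ((t.truncLT (q + 1)).obj L') q := by
    have hle : DerivedCategory.IsLE ((t.truncLT (q + 1)).obj L') (q + 1 - 1) := inferInstanceAs (t.IsLE _ _)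
    rwa [show q + 1 - 1 = q by omega] at hle
  obtain ⟨M, ⟨e⟩⟩ := ((t.truncLT (q + 1)).obj L').exists_iso_singleFunctor_obj_of_isGE_of_isLE q
  let eM : DCoh.HD ((t.truncLT (q + 1)).obj L') q ≅ M := (homologyFunctor X.Modules q).mapIso e ≪≫
    (singleFunctorCompHomologyFunctorIso X.Modules q).app M
  have hM : Coh.IsQCoh M :=
    isQCoh_iso eM (homP_truncLT Coh.IsQCoh isQCoh_iso isQCoh_isZero hL' (q + 1) q)
  obtain ⟨c⟩ := QRep.nonempty_rpush_single_iso f hM q
  have hz : IsZero ((Scheme.Modules.pushforward f).obj M) :=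
    h''.of_iso (((homologyFunctor S.Modules q).mapIso ((DCoh.Rpush f).mapIso e ≪≫ c)) ≪≫
      (singleFunctorCompHomologyFunctorIso S.Modules q).app _).symm
  have hs : IsZero ((singleFunctor X.Modules q).obj M) :=
    AffineUnit.isZero_of_rpush f _ (fun m => by
      rcases eq_or_ne m q with rfl | hm
      · exact isQCoh_iso ((singleFunctorCompHomologyFunctorIso X.Modules m).app M).symm hM
      · refine isQCoh_isZero _ ?_
        rcases lt_or_gt_of_ne hm with h1 | h1
        · exact DerivedCategory.isZero_of_isGE _ q m h1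
        · exact DerivedCategory.isZero_of_isLE _ q m h1)
      (((singleFunctor S.Modules q).map_isZero hz).of_iso c)
  have hM0 : IsZero (DCoh.HD ((t.truncLT (q + 1)).obj L') q) :=
    (homologyFunctor X.Modules q).map_isZero (hs.of_iso e)
  -- back to `L`
  have hL'q : IsZero (DCoh.HD L' q) :=
    (DerivedCategory.HomologySequence.exact₂ _ (t.triangleLTGE_distinguished (q + 1) L') q).isZero_of_both_zeros
      (hM0.eq_of_src _ _) ((DerivedCategory.isZero_of_isGE ((t.truncGE (q + 1)).obj L') (q + 1) q (by omega)).eq_of_tgt _ _)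
  exact (DerivedCategory.HomologySequence.exact₂ _ (t.triangleLTGE_distinguished q L) q).isZero_of_both_zeros
    ((DerivedCategory.isZero_of_isLE ((t.truncLT q).obj L) (q - 1) q (by omega)).eq_of_src _ _) (hL'q.eq_of_tgt _ _)

end Groth.Agent.H02CA.SysBounded
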