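import Groth.Agent.H02CA.SysBounded.Local
import Groth.Agent.H02CA.FibreVanish.Main
import Groth.Agent.S9501
import Groth.Agent.H16Derived.QCohD.RpushUnb
import Groth.Agent.H4DR.TorAmp.Residue

/-!
# Vanishing of cohomology from the derived fibre of a flat morphism
-/

set_option autoImplicit false
set_option linter.style.haveILetI false
set_option backward.isDefEq.respectTransparency false
set_option maxHeartbeats 1000000

universe u

open CategoryTheory CategoryTheory.Limits AlgebraicGeometry TensorProduct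

attribute [local instance] HasDerivedCategory.standard

noncomputable section

namespace Groth.Agent.H02CA.SysBounded

open Groth.Agent.H16Derived Groth.Agent.H16Derived.KFlat Groth.Agent.H16Derived.KFlat.Stalk

theorem one_tmul_eq_zero_iff {R k Q : Type u} [CommRing R] [CommRing k] [Algebra R k] [AddCommGroup Q] [Module R Q]
    (hs : Function.Surjective (algebraMap R k)) (x : Q) :
    (1 : k) ⊗ₜ[R] x = 0 ↔ x ∈ RingHom.ker (algebraMap R k) • (⊤ : Submodule R Q) := by
  let e : (R ⧸ RingHom.ker (algebraMap R k)) ≃ₗ[R] k :=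
    (Ideal.quotientKerAlgEquivOfSurjective (f := Algebra.ofId R k) hs).toLinearEquiv
  have he : e (Ideal.Quotient.mk _ 1) = 1 :=
    map_one (Ideal.quotientKerAlgEquivOfSurjective (f := Algebra.ofId R k) hs)
  rw [show (1 : k) ⊗ₜ[R] x = e.rTensor Q (Ideal.Quotient.mk _ (1 : R) ⊗ₜ[R] x) by
    rw [LinearEquiv.rTensor_tmul, he], LinearEquiv.map_eq_zero_iff,
    ← (TensorProduct.quotTensorEquivQuotSMul Q (RingHom.ker (algebraMap R k))).map_eq_zero_iff,
    TensorProduct.quotTensorEquivQuotSMul_mk_tmul, one_smul, Submodule.Quotient.mk_eq_zero]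

variable {P X : Scheme.{u}}

/-- The affine-local form. -/
theorem notMem_support_homology [IsLocallyNoetherian P] [IsLocallyNoetherian X] (π : P ⟶ X) [Flat π] (x : X)
    (S : CochainComplex P.Modules ℤ) (hS : DCoh.IsStrictlyPerfect S) (i : ℤ) (p : π.fiber x)
    (h : IsZero ((DerSch.stalkFunctor (π.fiber x) p).obj
      ((((Scheme.Modules.pullback (π.fiberι x)).mapHomologicalComplex (ComplexShape.up ℤ)).obj S).homology i))) :
    (π.fiberι x).base p ∉ CohB1.support (S.homology i) := by
  let f := π.fiberι x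
  obtain ⟨hs, hker⟩ := Groth.Agent.S9501.result π x p
  letI := H06Mod.stalkAlgebra f p
  let y := f.base p
  let R := P.presheaf.stalk y
  let k := (π.fiber x).presheaf.stalk p
  let d₁ : (S.X (i - 1)).presheaf.stalk y →ₗ[R] (S.X i).presheaf.stalk y := H06Mod.stalkLin (S.d (i - 1) i) y
  let d₂ : (S.X i).presheaf.stalk y →ₗ[R] (S.X (i + 1)).presheaf.stalk y := H06Mod.stalkLin (S.d i (i + 1)) y
  let C := ((DerSch.stalkFunctor (π.fiber x) p).mapHomologicalComplex (ComplexShape.up ℤ)).obj
    (((Scheme.Modules.pullback f).mapHomologicalComplex (ComplexShape.up ℤ)).obj S)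
  have hC : C.ExactAt i := by
    rw [HomologicalComplex.exactAt_iff_isZero_homology]
    exact h.of_iso (((((Scheme.Modules.pullback f).mapHomologicalComplex (ComplexShape.up ℤ)).obj S).sc i).mapHomologyIso
      (DerSch.stalkFunctor (π.fiber x) p))
  rw [HomologicalComplex.exactAt_iff' _ (i - 1) i (i + 1) (by simp) (by simp),
    ShortComplex.ShortExact.moduleCat_exact_iff_function_exact] at hC
  let e : ∀ j, k ⊗[R] (S.X j).presheaf.stalk y ≃ₗ[k] ((Scheme.Modules.pullback f).obj (S.X j)).presheaf.stalk p :=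
    fun j => H06Mod.pullStalkEquiv f (S.X j) p
  have hk : Function.Exact (d₁.baseChange k) (d₂.baseChange k) := by
    refine (Function.Exact.iff_of_ladder_linearEquiv (R := k) (e₁ := e (i - 1)) (e₂ := e i) (e₃ := e (i + 1))
      (f₁₂ := d₁.baseChange k) (f₂₃ := d₂.baseChange k)
      (g₁₂ := H06Mod.stalkLin ((Scheme.Modules.pullback f).map (S.d (i - 1) i)) p)
      (g₂₃ := H06Mod.stalkLin ((Scheme.Modules.pullback f).map (S.d i (i + 1))) p) ?_ ?_).1 hC
    · exact LinearMap.ext fun t => (pullStalkLin_naturality f p (S.d (i - 1) i) t).symm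
    · exact LinearMap.ext fun t => (pullStalkLin_naturality f p (S.d i (i + 1)) t).symm
  haveI : Module.Finite R ((S.X i).presheaf.stalk y) :=
    H06Mod.finite_stalk _ (H29Fitt.isFT_of_isFP _ (H8Props.FinLocFree.isFP_of_isFinLocFree _ (hS.2 i))) y
  haveI : Module.Free R ((S.X (i + 1)).presheaf.stalk y) := H8Props.FinLocFree.free_stalk _ (hS.2 (i + 1)) y
  let A := X.presheaf.stalk (π.base y)
  letI : Algebra A R := (π.stalkMap y).hom.toAlgebra
  haveI : Module.Flat A R := Flat.stalkMap π y
  haveI : IsLocalHom (algebraMap A R) := inferInstanceAs (IsLocalHom (π.stalkMap y).hom)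
  haveI : IsNoetherianRing R := inferInstance
  haveI : IsNoetherianRing A := inferInstance
  letI : Module A ((S.X (i + 1)).presheaf.stalk y) := Module.compHom _ (algebraMap A R)
  haveI : IsScalarTower A R ((S.X (i + 1)).presheaf.stalk y) := IsScalarTower.of_algebraMap_smul fun _ _ => rfl
  haveI : Module.Flat A ((S.X (i + 1)).presheaf.stalk y) := Module.Flat.trans A R _
  have hcomp : d₂ ∘ₗ d₁ = 0 := LinearMap.ext fun t => by
    have h := congr(($(congrArg (DerSch.stalkFunctor P y).map (S.d_comp_d (i - 1) i (i + 1)))).hom t)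
    rw [Functor.map_comp, Functor.map_zero] at h
    exact h
  have hs' : Function.Surjective (algebraMap R k) := hs
  have hker' : RingHom.ker (algebraMap R k) = (IsLocalRing.maximalIdeal A).map (algebraMap A R) := hker
  have hexact : Function.Exact d₁ d₂ := exact_of_fibre (A := A) d₁ d₂ hcomp fun v hv => by
    rw [← hker'] at hv ⊢
    obtain ⟨t, ht⟩ := (hk ((1 : k) ⊗ₜ[R] v)).1 (by
      rw [LinearMap.baseChange_tmul]; exact (one_tmul_eq_zero_iff hs' _).2 hv)
    obtain ⟨w, rfl⟩ := TensorProduct.mk_surjective R _ k hs' t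
    refine Submodule.mem_sup.2 ⟨d₁ w, LinearMap.mem_range_self d₁ w, v - d₁ w, (one_tmul_eq_zero_iff hs' _).1 ?_,
      add_sub_cancel _ _⟩
    rw [TensorProduct.tmul_sub, sub_eq_zero, ← ht]
    exact LinearMap.baseChange_tmul _ _ _
  let C' := ((DerSch.stalkFunctor P y).mapHomologicalComplex (ComplexShape.up ℤ)).obj S
  have hC' : C'.ExactAt i := by
    rw [HomologicalComplex.exactAt_iff' _ (i - 1) i (i + 1) (by simp) (by simp),
      ShortComplex.ShortExact.moduleCat_exact_iff_function_exact]
    exact hexact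
  rw [HomologicalComplex.exactAt_iff_isZero_homology] at hC'
  have hz : IsZero ((DerSch.stalkFunctor P y).obj (S.homology i)) :=
    hC'.of_iso ((S.sc i).mapHomologyIso (DerSch.stalkFunctor P y)).symm
  exact not_not.2 (ModuleCat.subsingleton_of_isZero hz)

/-- Vanishing of the cohomology of the derived fibre of a flat morphism gives vanishing of cohomology. -/
theorem notMem_support_of_fibre [IsLocallyNoetherian P] [IsLocallyNoetherian X] (π : P ⟶ X) [Flat π] (x : X)
    [DCoh.HasLpull (π.fiberι x)] (K : DCoh.D P) (hK : DCoh.IsPerfect K) (i : ℤ)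
    (h : IsZero (DCoh.HD ((DCoh.Lpull (π.fiberι x)).obj K) i)) (z : P) (hz : π.base z = x) :
    z ∉ CohB1.support (DCoh.HD K i) := by
  obtain ⟨W, hzW, S, hS, ⟨α⟩⟩ := (isPerfect_iff K).1 hK z
  let π' := W.ι ≫ π
  let f := π'.fiberι x
  obtain ⟨p, hp⟩ : (⟨z, hzW⟩ : W) ∈ Set.range f.base :=
    (Scheme.Hom.range_fiberι π' x).symm ▸ (show π'.base ⟨z, hzW⟩ = x from hz)
  let g : π'.fiber x ⟶ π.fiber x :=
    (pullbackRightPullbackFstIso π (X.fromSpecResidueField x) W.ι).inv ≫ pullback.snd _ _
  haveI : IsOpenImmersion g := by dsimp only [g]; infer_instance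
  have hg : g ≫ π.fiberι x = f ≫ W.ι := by
    simp only [g, f, Category.assoc]
    erw [← pullback.condition, ← Category.assoc, pullbackRightPullbackFstIso_inv_fst]
    rfl
  haveI := hasLpull f
  obtain ⟨e₁⟩ := QCohD.lpull_factor (π.fiberι x) g f W.ι hg.symm K
  let θ : (rd g).obj ((DCoh.Lpull (π.fiberι x)).obj K) ≅
      DerivedCategory.Q.obj (((Scheme.Modules.pullback f).mapHomologicalComplex (ComplexShape.up ℤ)).obj S) :=
    e₁ ≪≫ (DCoh.Lpull f).mapIso α.symm ≪≫ lpullObjIso f S (kflat_of_isStrictlyPerfect hS)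
  have h' : IsZero ((((Scheme.Modules.pullback f).mapHomologicalComplex (ComplexShape.up ℤ)).obj S).homology i) :=
    ((Scheme.Modules.restrictFunctor g).map_isZero h).of_iso
      ((homologyRdIso g _ i).symm ≪≫ (DerivedCategory.homologyFunctor _ i).mapIso θ ≪≫
        (DerivedCategory.homologyFunctorFactors _ i).app _).symm
  have key := notMem_support_homology π' x S hS i p ((DerSch.stalkFunctor _ p).map_isZero h')
  rw [hp] at key
  have key' := Sky.support_congr (((DerivedCategory.homologyFunctorFactors _ i).app S).symm ≪≫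
    (DerivedCategory.homologyFunctor _ i).mapIso α ≪≫ homologyRdIso W.ι K i) key
  intro hsup
  refine hsup ?_
  exact AddCommGrpCat.subsingleton_of_isZero (IsZero.of_iso
    (@AddCommGrpCat.isZero_of_subsingleton _ (not_not.1 key'))
    ((Scheme.Modules.restrictStalkNatIso W.ι ⟨z, hzW⟩).app _).symm)

end Groth.Agent.H02CA.SysBounded
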