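import Mathlib.RingTheory.Flat.EquationalCriterion
import Mathlib.RingTheory.Flat.Stability
import Mathlib.RingTheory.Filtration
import Mathlib.RingTheory.LocalRing.MaximalIdeal.Basic
import Mathlib.RingTheory.Noetherian.Basic
import Mathlib.RingTheory.LocalRing.RingHom.Basic
import Mathlib.RingTheory.LocalRing.ResidueField.Basic

/-!
# Exactness of a flat complex from exactness of its closed fibre
-/

set_option autoImplicit false

universe u

open IsLocalRing

namespace Groth.Agent.H02CA.SysBounded

variable {A : Type u} [CommRing A] [IsLocalRing A]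

/-- Generators whose relations have all coefficients in the maximal ideal. -/
theorem exists_gens (J : Ideal A) (hJ : J.FG) :
    ∃ s : Finset A, Ideal.span (s : Set A) = J ∧
      ∀ c : s → A, ∑ i, c i * (i : A) = 0 → ∀ i, c i ∈ maximalIdeal A := by
  classical
  have hex : ∃ n, ∃ s : Finset A, s.card = n ∧ Ideal.span (s : Set A) = J := by
    obtain ⟨s, hs⟩ := hJ
    exact ⟨_, s, rfl, hs⟩
  obtain ⟨s, hcard, hs⟩ := Nat.find_spec hex
  refine ⟨s, hs, fun c hc i => by_contra fun hi => ?_⟩
  obtain ⟨v, hv⟩ := (notMem_maximalIdeal.1 hi).exists_left_inv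
  have hmem : (i : A) ∈ Ideal.span ((s.erase i : Finset A) : Set A) := by
    have h := congrArg (v * ·) hc
    simp only [mul_zero, Finset.mul_sum] at h
    rw [← Finset.add_sum_erase _ _ (Finset.mem_univ i)] at h
    rw [← mul_assoc, hv, one_mul, add_eq_zero_iff_eq_neg] at h
    refine (congrArg (· ∈ Ideal.span ((s.erase i : Finset A) : Set A)) h).mpr
      (neg_mem (Ideal.sum_mem _ fun l hl => ?_))
    exact Ideal.mul_mem_left _ _ (Ideal.mul_mem_left _ _ (Ideal.subset_span
      (Finset.mem_erase.2 ⟨fun he => (Finset.mem_erase.1 hl).1 (Subtype.ext he), l.2⟩)))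
  have hlt : (s.erase i).card < Nat.find hex := hcard ▸ Finset.card_erase_lt_of_mem i.2
  refine Nat.find_min hex hlt ⟨s.erase i, rfl, le_antisymm ?_ ?_⟩
  · rw [← hs]
    exact Ideal.span_mono (fun x hx => Finset.mem_of_mem_erase hx)
  · rw [← hs, Ideal.span_le]
    intro x hx
    rcases eq_or_ne x i with rfl | hne
    · exact hmem
    · exact Ideal.subset_span (Finset.mem_erase.2 ⟨hne, hx⟩)

variable [IsNoetherianRing A] {B : Type u} [CommRing B] [IsLocalRing B] [IsNoetherianRing B] [Algebra A B]
  [IsLocalHom (algebraMap A B)]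
  {P Q R : Type u} [AddCommGroup P] [Module B P] [AddCommGroup Q] [Module B Q] [AddCommGroup R] [Module B R]
  [Module A R] [IsScalarTower A B R] [Module.Flat A R] [Module.Finite B Q]

/-- A complex over a flat local algebra whose closed fibre is exact is exact. -/
theorem exact_of_fibre (f : P →ₗ[B] Q) (g : Q →ₗ[B] R) (hgf : g ∘ₗ f = 0)
    (hk : ∀ x : Q, g x ∈ (maximalIdeal A).map (algebraMap A B) • (⊤ : Submodule B R) →
      x ∈ LinearMap.range f ⊔ (maximalIdeal A).map (algebraMap A B) • (⊤ : Submodule B Q)) :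
    Function.Exact f g := by
  classical
  set I := (maximalIdeal A).map (algebraMap A B) with hI
  have hIle : I ≤ maximalIdeal B :=
    ((IsLocalRing.local_hom_TFAE (algebraMap A B)).out 0 2).mp ‹IsLocalHom (algebraMap A B)›
  refine fun x => ⟨fun hx => ?_, fun ⟨p, hp⟩ => hp ▸ LinearMap.congr_fun hgf p⟩
  have key : ∀ j : ℕ, x ∈ LinearMap.range f ⊔ I ^ j • (⊤ : Submodule B Q) := by
    intro j
    induction j with
    | zero => simp
    | succ j ih =>
      obtain ⟨_, ⟨p, rfl⟩, r, hr, hsum⟩ := Submodule.mem_sup.1 ih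
      obtain ⟨s, hs, hrel⟩ := exists_gens (maximalIdeal A ^ j) (IsNoetherian.noetherian _)
      have hr' : r ∈ Ideal.span (algebraMap A B '' (s : Set A)) • (⊤ : Submodule B Q) := by
        rwa [← Ideal.map_span, hs, Ideal.map_pow]
      obtain ⟨y, hy⟩ : ∃ y : s → Q, r = ∑ i : s, algebraMap A B (i : A) • y i := by
        refine Submodule.smul_induction_on hr' (fun b hb n _ => ?_) ?_
        · induction hb using Submodule.span_induction with
          | mem b hb =>
            obtain ⟨a, ha, rfl⟩ := hb
            refine ⟨Pi.single ⟨a, ha⟩ n, ?_⟩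
            rw [Finset.sum_eq_single ⟨a, ha⟩ (fun l _ hl => by rw [Pi.single_eq_of_ne hl, smul_zero])
              (fun h => (h (Finset.mem_univ _)).elim), Pi.single_eq_same]
          | zero => exact ⟨0, by simp⟩
          | add b c _ _ hb hc =>
            obtain ⟨y, hy⟩ := hb
            obtain ⟨y', hy'⟩ := hc
            exact ⟨y + y', by rw [add_smul, hy, hy', ← Finset.sum_add_distrib]; simp⟩
          | smul c b _ hb =>
            obtain ⟨y, hy⟩ := hb
            exact ⟨c • y, by rw [smul_eq_mul, mul_smul, hy, Finset.smul_sum]; simp [smul_comm c]⟩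
        · rintro a b ⟨y, rfl⟩ ⟨y', rfl⟩
          exact ⟨y + y', by rw [← Finset.sum_add_distrib]; simp⟩
      have h0 : ∑ i : s, (i : A) • g (y i) = 0 := by
        have h1 : g r = 0 := by
          have := congrArg g hsum
          rwa [map_add, show g (f p) = 0 from LinearMap.congr_fun hgf p, zero_add, hx] at this
        rw [hy, map_sum] at h1
        simpa [algebraMap_smul, map_smul] using h1
      obtain ⟨κ, a, w, hw, ha⟩ := Module.Flat.isTrivialRelation_of_sum_smul_eq_zero h0
      have hg : ∀ i, g (y i) ∈ I • (⊤ : Submodule B R) := fun i => by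
        rw [show g (y i) = _ from hw i]
        refine Submodule.sum_mem _ fun l _ => ?_
        rw [← algebraMap_smul B (a i l)]
        exact Submodule.smul_mem_smul (Ideal.mem_map_of_mem _ (hrel (fun i => a i l)
          (by rw [← ha l]; exact Finset.sum_congr rfl fun i _ => mul_comm _ _) i)) trivial
      rw [← hsum, hy]
      refine Submodule.add_mem _ (Submodule.mem_sup_left ⟨p, rfl⟩) (Submodule.sum_mem _ fun i _ => ?_)
      obtain ⟨_, ⟨p', rfl⟩, r', hr'', h''⟩ := Submodule.mem_sup.1 (hk (y i) (hg i))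
      rw [← h'', smul_add, ← map_smul]
      refine Submodule.add_mem _ (Submodule.mem_sup_left ⟨_, rfl⟩) (Submodule.mem_sup_right ?_)
      rw [pow_succ, Submodule.mul_smul]
      refine Submodule.smul_mem_smul ?_ hr''
      rw [hI, ← Ideal.map_pow]
      exact Ideal.mem_map_of_mem _ (hs ▸ Ideal.subset_span i.2)
  have hbot := Ideal.iInf_pow_smul_eq_bot_of_isLocalRing (M := Q ⧸ LinearMap.range f) I
    (ne_top_of_le_ne_top (maximalIdeal.isMaximal B).ne_top hIle)
  have hmem : Submodule.Quotient.mk x ∈ (⨅ j : ℕ, I ^ j • ⊤ : Submodule B (Q ⧸ LinearMap.range f)) := by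
    refine (Submodule.mem_iInf _).2 fun j => ?_
    obtain ⟨_, ⟨p, rfl⟩, r, hr, hsum⟩ := Submodule.mem_sup.1 (key j)
    have h2 : Submodule.Quotient.mk r ∈ (I ^ j • ⊤ : Submodule B (Q ⧸ LinearMap.range f)) := by
      have h3 := Submodule.mem_map_of_mem (f := (LinearMap.range f).mkQ) hr
      rw [Submodule.map_smul'', Submodule.map_top, Submodule.range_mkQ] at h3
      exact h3
    rw [← hsum, Submodule.Quotient.mk_add, (Submodule.Quotient.mk_eq_zero _).2 (LinearMap.mem_range_self f p), zero_add]
    exact h2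
  rw [hbot, Submodule.mem_bot, Submodule.Quotient.mk_eq_zero] at hmem
  exact hmem

end Groth.Agent.H02CA.SysBounded
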