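import Groth.Agent.H02CA.SysBounded.Fibre
import Groth.Agent.H02CA.SysBounded.AffineHd
import Groth.Agent.H02CA.FMConv.Comp
import Groth.Agent.H02CA.FMConv.Conv
import Groth.Agent.H16Derived.RelTensor.Perfect
import Groth.Agent.H16Derived.PnD.Unit
import Groth.Agent.H8Props.RpushAffine
import Groth.Agent.LeadBrown.CopTensor
import Groth.Agent.LeadAff.Chevalley

/-!
# Kernels bounded at the closed points
-/

set_option autoImplicit false
set_option linter.style.haveILetI false
set_option backward.isDefEq.respectTransparency false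
set_option maxHeartbeats 1000000

universe u

open CategoryTheory CategoryTheory.Limits AlgebraicGeometry CategoryTheory.Pretriangulated

attribute [local instance] HasDerivedCategory.standard

noncomputable section

namespace Groth.Agent.H02CA.SysBounded

open Groth.Agent.H16Derived Groth.Agent.H16Derived.KFlat Groth.Agent.H16Derived.KFlat.Stalk

variable {P X : Scheme.{u}}

/-- The inverse image of the skyscraper sheaf along a flat morphism is the structure sheaf of the fibre. -/
theorem nonempty_pullback_pushO (π : P ⟶ X) [Flat π] (x : X) [IsClosedImmersion (X.fromSpecResidueField x)]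
    [IsClosedImmersion (π.fiberι x)] :
    Nonempty ((Scheme.Modules.pullback π).obj (DiagKernel.pushO (X.fromSpecResidueField x)) ≅
      DiagKernel.pushO (π.fiberι x)) := by
  let i := X.fromSpecResidueField x
  let j := π.fiberι x
  let g := π.fiberToSpecResidueField x
  haveI := hasLpull π
  haveI := hasLpull g
  haveI := QCohD.hasRpush i
  haveI := QCohD.hasRpush j
  haveI := QCohD.hasRpush g
  let O := DCoh.inD (Spec (X.residueField x)) (Coh.structureModule _)
  have hO : DCoh.IsQCohD O := Dual.isQCohD_of_isPerfect (PnD.isPerfect_one _)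
  obtain ⟨bc⟩ := FMConv.nonempty_bc_nat (C := Discrete PUnit.{1}) (f := i) (g := π) (f' := j) (g' := g)
    (IsPullback.of_hasPullback π i).flip (BaseChange.ti_of_flat' i π) ((Functor.const _).obj O) (fun _ => hO)
  obtain ⟨e₁⟩ := H8Props.RpushAffine.nonempty_rpush_closed i O
  obtain ⟨e₂⟩ := H8Props.ClosedBC.nonempty_lpull_flat π (DCoh.inD X (DiagKernel.pushO i))
  obtain ⟨l⟩ := LeadBrown.nonempty_lpull_single g 0
  obtain ⟨e₃⟩ := H8Props.RpushAffine.nonempty_rpush_closed j (DCoh.inD _ (Coh.structureModule (π.fiber x)))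
  haveI := preservesFiniteLimits_pullback_of_flat π
  haveI := H16Derived.ProjFormula.preservesHomology_push i
  let c : DCoh.inD P ((Scheme.Modules.pullback π).obj (DiagKernel.pushO i)) ≅
      DCoh.inD P (DiagKernel.pushO j) :=
    (((Scheme.Modules.pullback π).mapDerivedCategorySingleFunctor 0).app (DiagKernel.pushO i)).symm ≪≫ e₂.symm ≪≫
      (DCoh.Lpull π).mapIso ((((Scheme.Modules.pushforward i).mapDerivedCategorySingleFunctor 0).app _).symm ≪≫ e₁.symm) ≪≫
      bc.app ⟨⟨⟩⟩ ≪≫ (DCoh.Rpush j).mapIso l ≪≫ e₃ ≪≫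
      ((Scheme.Modules.pushforward j).mapDerivedCategorySingleFunctor 0).app _
  exact ⟨(DerivedCategory.singleFunctor P.Modules 0).preimageIso c⟩

variable {k : Type u} [Field k] {Y : Scheme.{u}} (a : X ⟶ Spec (.of k)) (b : Y ⟶ Spec (.of k))
  [LocallyOfFiniteType a] [QuasiCompact a] [LocallyOfFiniteType b] [QuasiCompact b]

/-- Vanishing of the images of a perfect kernel at all closed points gives vanishing of its cohomology. -/
theorem isZero_hd_of_points
    [∀ F : X.Modules, DCoh.HasLTensorMod ((Scheme.Modules.pullback (pullback.fst a b)).obj F)]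
    [DCoh.HasRpush (pullback.snd a b)]
    (K : DCoh.D (pullback a b)) (hK : DCoh.IsPerfect K) (i : ℤ)
    (h : ∀ F : X.Modules, Coh.IsCoh F → (CohB1.support F).Finite →
      (∀ x ∈ CohB1.support F, IsClosed ({x} : Set X)) →
      IsZero (DCoh.HD ((DCoh.Rpush (pullback.snd a b)).obj
        ((DCoh.LTensorMod ((Scheme.Modules.pullback (pullback.fst a b)).obj F)).obj K)) i)) :
    IsZero (DCoh.HD K i) := by
  let P := pullback a b
  let π := pullback.fst a b
  haveI : IsLocallyNoetherian X := LocallyOfFiniteType.isLocallyNoetherian a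
  haveI : IsLocallyNoetherian P := LocallyOfFiniteType.isLocallyNoetherian π
  haveI : JacobsonSpace X := LocallyOfFiniteType.jacobsonSpace a
  haveI : Flat π := inferInstance
  haveI : CompactSpace X := QuasiCompact.compactSpace_of_compactSpace a
  haveI : CompactSpace P := QuasiCompact.compactSpace_of_compactSpace π
  have hclosed := H10Coh.isClosed_support (DCoh.HD K i) ((isCohD_and_bounded_of_isPerfect hK).1 i).2
  refine H17.FPExt.isZero_of_stalk _ fun z₀ => not_not.1 fun hz₀ => ?_
  obtain ⟨z, hz, hzc⟩ := hclosed.exists_closed_singleton ⟨z₀, hz₀⟩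
  let x := π.base z
  have hx : IsClosed ({x} : Set X) := π.closePoints_subset_preimage_closedPoints hzc
  haveI : IsClosedImmersion (X.fromSpecResidueField x) := isClosed_singleton_iff_isClosedImmersion.mp hx
  haveI : IsClosedImmersion (π.fiberι x) :=
    MorphismProperty.pullback_fst _ _ ‹IsClosedImmersion (X.fromSpecResidueField x)›
  haveI : IsFinite (X.fromSpecResidueField x ≫ a) :=
    (isFinite_iff_locallyOfFiniteType_of_jacobsonSpace (f := X.fromSpecResidueField x ≫ a)).mpr inferInstance
  let j := π.fiberι x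
  let f := j ≫ pullback.snd a b
  haveI : IsFinite f := MorphismProperty.of_isPullback
    ((IsPullback.of_hasPullback π (X.fromSpecResidueField x)).paste_horiz (IsPullback.of_hasPullback a b).flip).flip
    ‹IsFinite (X.fromSpecResidueField x ≫ a)›
  haveI := hasLpull j
  haveI := QCohD.hasRpush j
  haveI := QCohD.hasRpush f
  haveI := hasLTensorMod (DiagKernel.pushO j)
  let F := DiagKernel.pushO (X.fromSpecResidueField x)
  have hsupp : CohB1.support F ⊆ {x} := fun y hy => by
    by_contra hne
    exact Sky.support_skyM hx hne hy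
  have h0 := h F (H10Coh.isCoh_push_of_isFinite (f := X.fromSpecResidueField x) _ (LeadAff.isCoh_structureModule _))
    ((Set.finite_singleton x).subset hsupp) (fun y hy => by rw [hsupp hy]; exact hx)
  obtain ⟨e₁⟩ := nonempty_pullback_pushO π x
  obtain ⟨e₂⟩ := RelTensor.nonempty_ltensorMod_congr e₁ K
  obtain ⟨e₃⟩ := FibreVanish.nonempty_ltensorMod_iso j
  obtain ⟨e₄⟩ := H25FM.nonempty_rpush_comp j (pullback.snd a b) f rfl
  have hq : DCoh.IsQCohD ((DCoh.Lpull j).obj K) := QCohD.isQCohD_lpull j (Dual.isQCohD_of_isPerfect hK)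
  have h1 : IsZero (DCoh.HD ((DCoh.Rpush f).obj ((DCoh.Lpull j).obj K)) i) :=
    h0.of_iso ((DerivedCategory.homologyFunctor _ i).mapIso
      ((DCoh.Rpush (pullback.snd a b)).mapIso (e₂ ≪≫ e₃.app K) ≪≫ e₄.app ((DCoh.Lpull j).obj K))).symm
  exact notMem_support_of_fibre π x K hK i (isZero_hd_of_rpush f _ hq i h1) z rfl hz

end Groth.Agent.H02CA.SysBounded
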